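import Mathlib

/-!
Explicit blocks showing that every even permutation of at least five points is a commutator
`x * k * x⁻¹ * k⁻¹` in which `x` is even and interchanges two pairs of points.
-/

set_option autoImplicit false

namespace Cfsg.Agent.Lib.DoubleCoverComm

open Equiv

variable {α : Type*} [Fintype α] [DecidableEq α]

/-- The permutation `p` is the commutator of the even permutation `x` with `k`. -/
def Rep (p x k : Perm α) : Prop := Perm.sign x = 1 ∧ p * k * x = x * k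

/-- Both permutations fix the fixed points of `p`. -/
def Confined (p x k : Perm α) : Prop := ∀ y, p y = y → x y = y ∧ k y = y

/-- `x` interchanges two pairs of points. -/
def SwapPairs (x : Perm α) : Prop :=
  ∃ a b c d : α, [a, b, c, d].Nodup ∧ x a = b ∧ x b = a ∧ x c = d ∧ x d = c

/-- A commutator with an even first entry, inside the support. -/
def Comm0 (p : Perm α) : Prop := ∃ x k, Rep p x k ∧ Confined p x k

/-- The same, where the first entry interchanges two pairs. -/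
def Flip (p : Perm α) : Prop := ∃ x k, Rep p x k ∧ Confined p x k ∧ SwapPairs x

/-- The same, without the condition on supports. -/
def FlipW (p : Perm α) : Prop := ∃ x k, Rep p x k ∧ SwapPairs x

theorem Flip.toComm0 {p : Perm α} (h : Flip p) : Comm0 p := by
  obtain ⟨x, k, h1, h2, -⟩ := h
  exact ⟨x, k, h1, h2⟩

theorem Flip.toFlipW {p : Perm α} (h : Flip p) : FlipW p := by
  obtain ⟨x, k, h1, -, h3⟩ := h
  exact ⟨x, k, h1, h3⟩

theorem comm0_one : Comm0 (1 : Perm α) := ⟨1, 1, ⟨by simp, by simp⟩, fun y _ => by simp⟩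

/-! ## Composition of disjoint pieces -/

theorem rep_mul {p q x₁ k₁ x₂ k₂ : Perm α} (hd : p.Disjoint q) (h1 : Rep p x₁ k₁)
    (h2 : Rep q x₂ k₂) (c1 : Confined p x₁ k₁) (c2 : Confined q x₂ k₂) :
    Rep (p * q) (x₁ * x₂) (k₁ * k₂) ∧ Confined (p * q) (x₁ * x₂) (k₁ * k₂) := by
  have hx : ∀ f g : Perm α, (∀ y, p y = y → f y = y) → (∀ y, q y = y → g y = y) → g * f = f * g := by
    intro f g hf hg
    exact ((show f.Disjoint g from fun y => (hd y).imp (hf y) (hg y)).commute).symm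
  have e1 : q * k₁ = k₁ * q := hx _ _ (fun y h => (c1 y h).2) (fun y h => h)
  have e2 : q * k₂ * x₁ = x₁ * (q * k₂) := hx x₁ (q * k₂) (fun y h => (c1 y h).1)
    (fun y h => by rw [Perm.mul_apply, (c2 y h).2, h])
  have e3 : x₂ * k₁ = k₁ * x₂ := hx _ _ (fun y h => (c1 y h).2) (fun y h => (c2 y h).1)
  refine ⟨⟨by rw [map_mul, h1.1, h2.1, one_mul], ?_⟩, ?_⟩
  · calc p * q * (k₁ * k₂) * (x₁ * x₂) = p * (q * k₁) * k₂ * x₁ * x₂ := by group
      _ = p * k₁ * (q * k₂ * x₁) * x₂ := by rw [e1]; group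
      _ = p * k₁ * x₁ * (q * k₂ * x₂) := by rw [e2]; group
      _ = x₁ * k₁ * (x₂ * k₂) := by rw [h1.2, h2.2]
      _ = x₁ * (k₁ * x₂) * k₂ := by group
      _ = x₁ * x₂ * (k₁ * k₂) := by rw [← e3]; group
  · intro y hy
    obtain ⟨hp, hq⟩ := hd.mul_apply_eq_iff.mp hy
    simp [(c1 y hp).1, (c1 y hp).2, (c2 y hq).1, (c2 y hq).2]

theorem Comm0.mul {p q : Perm α} (hd : p.Disjoint q) (h1 : Comm0 p) (h2 : Comm0 q) :
    Comm0 (p * q) := by
  obtain ⟨x₁, k₁, a1, b1⟩ := h1
  obtain ⟨x₂, k₂, a2, b2⟩ := h2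
  exact ⟨_, _, rep_mul hd a1 a2 b1 b2⟩

theorem Flip.mul {p q : Perm α} (hd : p.Disjoint q) (h1 : Flip p) (h2 : Comm0 q) :
    FlipW (p * q) := by
  obtain ⟨x₁, k₁, a1, b1, a, b, c, d, hn, ha, hb, hc, he⟩ := h1
  obtain ⟨x₂, k₂, a2, b2⟩ := h2
  have hfix : ∀ y z, x₁ y = z → z ≠ y → (x₁ * x₂) y = z := by
    intro y z h hne
    rw [Perm.mul_apply, (b2 y ((hd y).resolve_left fun hp => hne (h.symm.trans (b1 y hp).1))).1, h]
  have hn' := hn
  simp only [List.nodup_cons, List.mem_cons, List.not_mem_nil, or_false, not_or] at hn'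
  obtain ⟨⟨hab, -, -⟩, ⟨-, -⟩, hcd, -, -⟩ := hn'
  exact ⟨_, _, (rep_mul hd a1 a2 b1 b2).1, a, b, c, d, hn, hfix _ _ ha (Ne.symm hab),
    hfix _ _ hb hab, hfix _ _ hc (Ne.symm hcd), hfix _ _ he hcd⟩

/-! ## Transport from a model -/

section Model

variable {L : ℕ}

theorem exists_emb (g₀ : Perm (Fin L)) (p : Perm α) (hp : p.cycleType = g₀.cycleType)
    (hL : L ≤ Fintype.card α) :
    ∃ (F : Perm (Fin L) →* Perm α) (f : Fin L ↪ α), F g₀ = p ∧
      (∀ s, Perm.sign (F s) = Perm.sign s) ∧ (∀ s j, F s (f j) = f (s j)) ∧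
      ∀ s y, y ∉ Set.range f → F s y = y := by
  obtain ⟨i⟩ : Nonempty (Fin L ↪ α) :=
    Function.Embedding.nonempty_of_card_le (by rwa [Fintype.card_fin])
  classical
  set e := Equiv.ofInjective i i.injective
  have hct : (g₀.extendDomain e).cycleType = p.cycleType := by
    rw [Perm.cycleType_extendDomain, hp]
  obtain ⟨c, hc⟩ := isConj_iff.mp (Perm.isConj_iff_cycleType_eq.mpr hct)
  refine ⟨(MulAut.conj c).toMonoidHom.comp (Perm.extendDomainHom e), i.trans c.toEmbedding, hc,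
    fun s => ?_, fun s j => ?_, fun s y hy => ?_⟩
  · show Perm.sign (c * s.extendDomain e * c⁻¹) = _
    rw [map_mul, map_mul, map_inv, Perm.sign_extendDomain, mul_comm, inv_mul_cancel_left]
  · show (c * s.extendDomain e * c⁻¹) (c (i j)) = c (i (s j))
    rw [Perm.mul_apply, Perm.mul_apply, show c⁻¹ (c (i j)) = i j from c.symm_apply_apply _]
    exact congrArg c (Perm.extendDomain_apply_image s e j)
  · show (c * s.extendDomain e * c⁻¹) y = y
    rw [Perm.mul_apply, Perm.mul_apply, Perm.extendDomain_apply_not_subtype s e]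
    · exact c.apply_symm_apply y
    · rintro ⟨j, hj⟩
      exact hy ⟨j, by show c (i j) = y; rw [hj]; exact c.apply_symm_apply y⟩

theorem confined_of_model {g₀ x₀ k₀ : Perm (Fin L)} {F : Perm (Fin L) →* Perm α} {f : Fin L ↪ α}
    {p : Perm α} (hg : F g₀ = p) (hin : ∀ s j, F s (f j) = f (s j))
    (hout : ∀ s y, y ∉ Set.range f → F s y = y) (hc : Confined g₀ x₀ k₀) :
    Confined p (F x₀) (F k₀) := by
  intro y hy
  by_cases hr : y ∈ Set.range f
  · obtain ⟨j, rfl⟩ := hr
    rw [← hg, hin] at hy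
    have := hc j (f.injective hy)
    rw [hin, hin, this.1, this.2]
    exact ⟨rfl, rfl⟩
  · exact ⟨hout _ y hr, hout _ y hr⟩

theorem swapPairs_of_model {x₀ : Perm (Fin L)} {F : Perm (Fin L) →* Perm α} {f : Fin L ↪ α}
    (hin : ∀ s j, F s (f j) = f (s j)) (hs : SwapPairs x₀) : SwapPairs (F x₀) := by
  obtain ⟨a, b, c, d, hn, ha, hb, hc, hd⟩ := hs
  exact ⟨f a, f b, f c, f d, hn.map f.injective, by rw [hin, ha], by rw [hin, hb], by rw [hin, hc],
    by rw [hin, hd]⟩

theorem rep_of_model {g₀ x₀ k₀ : Perm (Fin L)} {F : Perm (Fin L) →* Perm α} {p : Perm α}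
    (hg : F g₀ = p) (hsg : ∀ s, Perm.sign (F s) = Perm.sign s) (h : Rep g₀ x₀ k₀) :
    Rep p (F x₀) (F k₀) :=
  ⟨by rw [hsg, h.1], by rw [← hg, ← map_mul, ← map_mul, h.2, map_mul]⟩

theorem Comm0.of_model {g₀ : Perm (Fin L)} {p : Perm α} (h : Comm0 g₀)
    (hp : p.cycleType = g₀.cycleType) (hL : L ≤ Fintype.card α) : Comm0 p := by
  obtain ⟨x, k, h1, h2⟩ := h
  obtain ⟨F, f, a, b, c, d⟩ := exists_emb g₀ p hp hL
  exact ⟨F x, F k, rep_of_model a b h1, confined_of_model a c d h2⟩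

theorem Flip.of_model {g₀ : Perm (Fin L)} {p : Perm α} (h : Flip g₀)
    (hp : p.cycleType = g₀.cycleType) (hL : L ≤ Fintype.card α) : Flip p := by
  obtain ⟨x, k, h1, h2, h3⟩ := h
  obtain ⟨F, f, a, b, c, d⟩ := exists_emb g₀ p hp hL
  exact ⟨F x, F k, rep_of_model a b h1, confined_of_model a c d h2, swapPairs_of_model c h3⟩

theorem FlipW.of_model {g₀ : Perm (Fin L)} {p : Perm α} (h : FlipW g₀)
    (hp : p.cycleType = g₀.cycleType) (hL : L ≤ Fintype.card α) : FlipW p := by
  obtain ⟨x, k, h1, h3⟩ := h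
  obtain ⟨F, f, a, b, c, d⟩ := exists_emb g₀ p hp hL
  exact ⟨F x, F k, rep_of_model a b h1, swapPairs_of_model c h3⟩

end Model

/-! ## Two blocks side by side -/

/-- The permutation acting as `s` on the first `m` points and as `t` on the last `r`. -/
def join {m r : ℕ} (s : Perm (Fin m)) (t : Perm (Fin r)) : Perm (Fin (m + r)) :=
  finSumFinEquiv.permCongr (Equiv.sumCongr s t)

theorem join_castAdd {m r : ℕ} (s : Perm (Fin m)) (t : Perm (Fin r)) (j : Fin m) :
    join s t (Fin.castAdd r j) = Fin.castAdd r (s j) := by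
  simp [join, Equiv.permCongr_apply]

theorem join_natAdd {m r : ℕ} (s : Perm (Fin m)) (t : Perm (Fin r)) (j : Fin r) :
    join s t (Fin.natAdd m j) = Fin.natAdd m (t j) := by
  simp [join, Equiv.permCongr_apply]

theorem cycleType_join {m r : ℕ} (s : Perm (Fin m)) (t : Perm (Fin r)) :
    (join s t).cycleType = s.cycleType + t.cycleType := by
  classical
  let e₁ := Equiv.ofInjective (Fin.castAdd r : Fin m → Fin (m + r)) (Fin.castAdd_injective m r)
  let e₂ := Equiv.ofInjective (Fin.natAdd m : Fin r → Fin (m + r)) (Fin.natAdd_injective r m)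
  have n1 : ∀ j : Fin r, Fin.natAdd m j ∉ Set.range (Fin.castAdd r : Fin m → Fin (m + r)) := by
    rintro j ⟨i, hi⟩
    have := congrArg Fin.val hi
    simp only [Fin.val_castAdd, Fin.val_natAdd] at this
    omega
  have n2 : ∀ j : Fin m, Fin.castAdd r j ∉ Set.range (Fin.natAdd m : Fin r → Fin (m + r)) := by
    rintro j ⟨i, hi⟩
    have := congrArg Fin.val hi
    simp only [Fin.val_castAdd, Fin.val_natAdd] at this
    omega
  have hd : (s.extendDomain e₁).Disjoint (t.extendDomain e₂) := by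
    intro y
    induction y using Fin.addCases with
    | left j => exact Or.inr (Perm.extendDomain_apply_not_subtype t e₂ (n2 j))
    | right j => exact Or.inl (Perm.extendDomain_apply_not_subtype s e₁ (n1 j))
  have he : join s t = s.extendDomain e₁ * t.extendDomain e₂ := by
    ext y
    induction y using Fin.addCases with
    | left j =>
      rw [join_castAdd, Perm.mul_apply, Perm.extendDomain_apply_not_subtype t e₂ (n2 j)]
      exact congrArg Fin.val (Perm.extendDomain_apply_image s e₁ j).symm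
    | right j =>
      rw [join_natAdd, Perm.mul_apply]
      have := Perm.extendDomain_apply_image t e₂ j
      change (t.extendDomain e₂) (Fin.natAdd m j) = Fin.natAdd m (t j) at this
      rw [this, Perm.extendDomain_apply_not_subtype s e₁ (n1 _)]
  rw [he, hd.cycleType_mul, Perm.cycleType_extendDomain, Perm.cycleType_extendDomain]

theorem val_finRotate {L : ℕ} (j : Fin L) :
    (finRotate L j : ℕ) = if (j : ℕ) + 1 = L then 0 else (j : ℕ) + 1 := by
  rcases L with _ | L
  · exact j.elim0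
  · rw [coe_finRotate]
    have := j.isLt
    simp only [Fin.ext_iff, Fin.val_last]
    split_ifs <;> omega

theorem val_join_finRotate {m r : ℕ} (j : Fin (m + r)) :
    (join (finRotate m) (finRotate r) j : ℕ) =
      if (j : ℕ) < m then (if (j : ℕ) + 1 = m then 0 else (j : ℕ) + 1)
      else (if (j : ℕ) + 1 = m + r then m else (j : ℕ) + 1) := by
  induction j using Fin.addCases with
  | left i =>
    rw [join_castAdd]
    simp only [Fin.val_castAdd, val_finRotate]
    have := i.isLt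
    split_ifs <;> omega
  | right i =>
    rw [join_natAdd]
    simp only [Fin.val_natAdd, val_finRotate]
    have := i.isLt
    split_ifs <;> omega

theorem sign_eq_one_of_fix {L : ℕ} {σ : Perm (Fin L)} (hσ : σ * σ = 1) (F : Finset (Fin L))
    (hF : ∀ j, σ j = j ↔ j ∈ F) (h4 : 4 ∣ L - F.card) : Perm.sign σ = 1 := by
  classical
  have hc : Fintype.card (Function.fixedPoints σ) = F.card := by
    rw [← Fintype.card_coe F]
    exact Fintype.card_congr (Equiv.subtypeEquivRight fun j => hF j)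
  rw [Perm.sign_of_pow_two_eq_one (by rw [pow_two, hσ]), hc, Fintype.card_fin]
  obtain ⟨t, ht⟩ := h4
  rw [show (L - F.card) / 2 = 2 * t by omega, pow_mul]
  simp

theorem sign_cube {L : ℕ} (σ : Perm (Fin L)) (h : Perm.sign (σ * σ * σ) = 1) :
    Perm.sign σ = 1 := by
  rcases Int.units_eq_one_or (Perm.sign σ) with h' | h'
  · exact h'
  · rw [map_mul, map_mul, h'] at h
    exact absurd h (by decide)

/-- A permutation of `Fin L` given by a function on numbers. -/
noncomputable def mkP (L : ℕ) (f : ℕ → ℕ) (h1 : ∀ j < L, f j < L)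
    (h2 : ∀ i < L, ∀ j < L, f i = f j → i = j) : Perm (Fin L) :=
  Equiv.ofBijective (fun j => ⟨f j, h1 j j.isLt⟩) (Finite.injective_iff_bijective.mp
    fun i j h => Fin.ext (h2 i i.isLt j j.isLt (congrArg Fin.val h)))

theorem val_mkP {L : ℕ} {f : ℕ → ℕ} (h1 : ∀ j < L, f j < L)
    (h2 : ∀ i < L, ∀ j < L, f i = f j → i = j) (j : Fin L) : (mkP L f h1 h2 j : ℕ) = f j := rfl

theorem swapPairs_of_nat {L : ℕ} {x : Perm (Fin L)} {f : ℕ → ℕ} (hx : ∀ j, (x j : ℕ) = f j)
    (a b c d : ℕ) (ha : a < L) (hb : b < L) (hc : c < L) (hd : d < L)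
    (hne : a ≠ b ∧ a ≠ c ∧ a ≠ d ∧ b ≠ c ∧ b ≠ d ∧ c ≠ d)
    (h : f a = b ∧ f b = a ∧ f c = d ∧ f d = c) : SwapPairs x := by
  refine ⟨⟨a, ha⟩, ⟨b, hb⟩, ⟨c, hc⟩, ⟨d, hd⟩, ?_, ?_, ?_, ?_, ?_⟩
  · simp only [List.nodup_cons, List.mem_cons, List.not_mem_nil, or_false, Fin.ext_iff, not_or,
      not_false_eq_true, List.nodup_nil, and_true]
    tauto
  all_goals refine Fin.ext ((hx _).trans ?_)
  exacts [h.1, h.2.1, h.2.2.1, h.2.2.2]

theorem swapPairs_mkP {L : ℕ} {f : ℕ → ℕ} (h1 : ∀ j < L, f j < L)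
    (h2 : ∀ i < L, ∀ j < L, f i = f j → i = j) (a b c d : ℕ) (ha : a < L) (hb : b < L) (hc : c < L)
    (hd : d < L) (hne : a ≠ b ∧ a ≠ c ∧ a ≠ d ∧ b ≠ c ∧ b ≠ d ∧ c ≠ d)
    (h : f a = b ∧ f b = a ∧ f c = d ∧ f d = c) : SwapPairs (mkP L f h1 h2) :=
  swapPairs_of_nat (val_mkP h1 h2) a b c d ha hb hc hd hne h

end Cfsg.Agent.Lib.DoubleCoverComm
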