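import Cfsg.Agent.Lib.DoubleCoverComm.Pairs

/-!
Every even permutation of at least five points is a commutator whose first entry is even and
interchanges two pairs of points.
-/

set_option autoImplicit false

namespace Cfsg.Agent.Lib.DoubleCoverComm

open Equiv

theorem flipW_type_two_two : ∃ g : Perm (Fin (2 + 2 + 1)), g.cycleType = {2, 2} ∧ FlipW g := by
  refine ⟨join (join (finRotate 2) (finRotate 2)) 1, ?_, swap 0 2 * swap 1 3, swap 2 3,
    ⟨by decide, Equiv.ext (by decide)⟩, 0, 2, 1, 3, by decide, by decide, by decide, by decide,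
    by decide⟩
  rw [cycleType_join, cycleType_join, cycleType_finRotate_of_le le_rfl, Perm.cycleType_one]
  rfl

theorem flipW_type_three : ∃ g : Perm (Fin (3 + 2)), g.cycleType = {3} ∧ FlipW g := by
  refine ⟨join (finRotate 3) 1, ?_, swap 1 2 * swap 3 4, swap 0 1,
    ⟨by decide, Equiv.ext (by decide)⟩, 1, 2, 3, 4, by decide, by decide, by decide, by decide,
    by decide⟩
  rw [cycleType_join, cycleType_finRotate_of_le (by norm_num), Perm.cycleType_one, add_zero]

theorem flip_type_four_twos :
    ∃ g : Perm (Fin (2 + 2 + (2 + 2))), g.cycleType = {2, 2, 2, 2} ∧ Flip g := by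
  refine ⟨join (join (finRotate 2) (finRotate 2)) (join (finRotate 2) (finRotate 2)), ?_,
    swap 4 5 * swap 6 7, swap 0 4 * swap 1 5 * swap 2 6 * swap 3 7,
    ⟨by decide, Equiv.ext (by decide)⟩, confined_of_fpf (by decide),
    4, 5, 6, 7, by decide, by decide, by decide, by decide, by decide⟩
  rw [cycleType_join, cycleType_join, cycleType_finRotate_of_le le_rfl]
  rfl

theorem flip_type_two_two_three :
    ∃ g : Perm (Fin (2 + 2 + 3)), g.cycleType = {2, 2, 3} ∧ Flip g := by
  refine ⟨join (join (finRotate 2) (finRotate 2)) (finRotate 3), ?_,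
    swap 2 3 * swap 5 6, swap 0 2 * swap 1 3 * swap 4 5,
    ⟨by decide, Equiv.ext (by decide)⟩, confined_of_fpf (by decide),
    2, 3, 5, 6, by decide, by decide, by decide, by decide, by decide⟩
  rw [cycleType_join, cycleType_join, cycleType_finRotate_of_le le_rfl,
    cycleType_finRotate_of_le (by norm_num)]
  rfl

theorem flip_type_three_three : ∃ g : Perm (Fin (3 + 3)), g.cycleType = {3, 3} ∧ Flip g := by
  refine ⟨join (finRotate 3) (finRotate 3), ?_, swap 1 2 * swap 4 5, swap 0 1 * swap 3 4,
    ⟨by decide, Equiv.ext (by decide)⟩, confined_of_fpf (by decide),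
    1, 2, 4, 5, by decide, by decide, by decide, by decide, by decide⟩
  rw [cycleType_join, cycleType_finRotate_of_le (by norm_num)]
  rfl

variable {α : Type*} [Fintype α] [DecidableEq α]

/-- A sub-multiset of the cycle type comes from a disjoint factor. -/
theorem exists_factor (A : Multiset ℕ) :
    ∀ g : Perm α, A ≤ g.cycleType →
      ∃ p q, g = p * q ∧ p.Disjoint q ∧ p.cycleType = A ∧ q.cycleType = g.cycleType - A := by
  induction A using Multiset.induction_on with
  | empty =>
    intro g _
    exact ⟨1, g, by simp, Perm.disjoint_one_left g, Perm.cycleType_one, by simp⟩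
  | cons n A ih =>
    intro g hle
    obtain ⟨p, q, rfl, hd, hp, hq⟩ := ih g ((Multiset.le_cons_self A n).trans hle)
    have hn : n ∈ q.cycleType := by
      rw [hq]
      exact Multiset.mem_sub.mpr (lt_of_lt_of_le (by simp) (Multiset.le_iff_count.mp hle n))
    obtain ⟨c, τ, rfl, hd', hc, rfl⟩ := Perm.mem_cycleType_iff.mp hn
    have h1 : p.Disjoint c := fun y => (hd y).imp id fun h => (hd'.mul_apply_eq_iff.mp h).1
    have h2 : p.Disjoint τ := fun y => (hd y).imp id fun h => (hd'.mul_apply_eq_iff.mp h).2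
    refine ⟨p * c, τ, by rw [mul_assoc], h2.mul_left hd', ?_, ?_⟩
    · rw [h1.cycleType_mul, hp, hc.cycleType, ← Multiset.singleton_add, add_comm]
    · rw [hd.cycleType_mul, hp, hd'.cycleType_mul, hc.cycleType, Multiset.singleton_add,
        Multiset.add_cons, ← Multiset.cons_add, add_tsub_cancel_left]

theorem sum_le (g : Perm α) {A : Multiset ℕ} (h : A ≤ g.cycleType) : A.sum ≤ Fintype.card α := by
  obtain ⟨B, hB⟩ := Multiset.le_iff_exists_add.mp h
  have := g.sum_cycleType_le
  rw [hB, Multiset.sum_add] at this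
  omega

/-- An even cycle of an even permutation has an even partner. -/
theorem exists_even_partner {g : Perm α} (hg : Perm.sign g = 1) {L : ℕ} (hL : Even L)
    {M : Multiset ℕ} (hM : g.cycleType = L ::ₘ M) : ∃ r ∈ M, Even r := by
  by_contra! h
  rw [Perm.sign_of_cycleType', hM, Multiset.map_cons, Multiset.prod_cons,
    Multiset.prod_eq_one, hL.neg_one_pow] at hg
  · exact absurd hg (by decide)
  · intro u hu
    obtain ⟨r, hr, rfl⟩ := Multiset.mem_map.mp hu
    rw [(Nat.not_even_iff_odd.mp (h r hr)).neg_one_pow, neg_neg]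

theorem pair_block (a b : ℕ) (ha : 1 ≤ a) (hb : 1 ≤ b) :
    ∃ L, ∃ g₀ : Perm (Fin L), L = 2 * a + 2 * b ∧ g₀.cycleType = {2 * a, 2 * b} ∧ Comm0 g₀ ∧
      (3 ≤ a + b → Flip g₀) := by
  have hct : ∀ a b, 1 ≤ a → 1 ≤ b →
      (join (finRotate (2 * a)) (finRotate (2 * b))).cycleType = {2 * a, 2 * b} := fun a b ha hb => by
    rw [cycleType_join, cycleType_finRotate_of_le (by omega),
      cycleType_finRotate_of_le (by omega)]
    rfl
  rcases Nat.mod_two_eq_zero_or_one (a + b) with h | h
  · rcases le_total a b with hle | hle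
    · exact ⟨_, _, rfl, hct a b ha hb, (pair_even a b ha h hle).1,
        fun h3 => (pair_even a b ha h hle).2 (by omega)⟩
    · exact ⟨_, _, by omega, (hct b a hb ha).trans (Multiset.pair_comm _ _),
        (pair_even b a hb (by omega) hle).1,
        fun h3 => (pair_even b a hb (by omega) hle).2 (by omega)⟩
  · exact ⟨_, _, rfl, hct a b ha hb, (flip_pair_odd a b ha hb h).toComm0,
      fun _ => flip_pair_odd a b ha hb h⟩

/-- Every even permutation is a commutator inside its support with even first entry. -/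
theorem comm0_of_even : ∀ (s : ℕ) (g : Perm α), g.cycleType.card ≤ s → Perm.sign g = 1 → Comm0 g := by
  intro s
  induction s with
  | zero =>
    intro g hs _
    rw [Perm.cycleType_eq_zero.mp (Multiset.card_eq_zero.mp (Nat.le_zero.mp hs))]
    exact comm0_one
  | succ s ih =>
    intro g hs hsg
    rcases Multiset.empty_or_exists_mem g.cycleType with h0 | ⟨L, hL⟩
    · rw [Perm.cycleType_eq_zero.mp h0]
      exact comm0_one
    have h2 := Perm.two_le_of_mem_cycleType hL
    suffices ∃ A ≤ g.cycleType, A ≠ 0 ∧ ∀ p : Perm α, p.cycleType = A → Comm0 p by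
      obtain ⟨A, hA, hA0, hAc⟩ := this
      obtain ⟨p, q, rfl, hd, hp, hq⟩ := exists_factor A g hA
      have hsp : Perm.sign p = 1 := by
        obtain ⟨x, k, ⟨hx, he⟩, -⟩ := hAc p hp
        have := congrArg Perm.sign he
        rw [map_mul, map_mul, map_mul, hx, mul_one, one_mul, mul_eq_right] at this
        exact this
      refine Comm0.mul hd (hAc p hp) (ih q ?_ (by rwa [map_mul, hsp, one_mul] at hsg))
      rw [hq, Multiset.card_sub hA]
      have := Multiset.card_pos.mpr hA0
      omega
    rcases Nat.even_or_odd L with he | ho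
    · obtain ⟨M, hM⟩ := Multiset.exists_cons_of_mem hL
      obtain ⟨r, hr, her⟩ := exists_even_partner hsg he hM
      have hr2 : 2 ≤ r := Perm.two_le_of_mem_cycleType (hM ▸ Multiset.mem_cons_of_mem hr)
      obtain ⟨a, rfl⟩ := he
      obtain ⟨b, rfl⟩ := her
      have hle : ({2 * a, 2 * b} : Multiset ℕ) ≤ g.cycleType := by
        rw [hM, two_mul, two_mul]
        exact Multiset.cons_le_cons _ (Multiset.singleton_le.mpr hr)
      refine ⟨_, hle, by simp, fun p hp => ?_⟩
      obtain ⟨N, g₀, rfl, hct, hc, -⟩ := pair_block a b (by omega) (by omega)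
      refine hc.of_model (hp.trans hct.symm) ?_
      simpa using sum_le g hle
    · refine ⟨{L}, Multiset.singleton_le.mpr hL, by simp, fun p hp => ?_⟩
      obtain ⟨u, hu⟩ := ho
      exact (comm0_cycle L (by omega) (by omega)).of_model
        (hp.trans (cycleType_finRotate_of_le h2).symm)
        (by simpa using sum_le g (Multiset.singleton_le.mpr hL))

theorem comm0_of_even' (g : Perm α) (hg : Perm.sign g = 1) : Comm0 g :=
  comm0_of_even _ g le_rfl hg

theorem sign_of_comm0 {p : Perm α} (h : Comm0 p) : Perm.sign p = 1 := by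
  obtain ⟨x, k, ⟨hx, he⟩, -⟩ := h
  have := congrArg Perm.sign he
  rw [map_mul, map_mul, map_mul, hx, mul_one, one_mul, mul_eq_right] at this
  exact this

theorem flipW_of_block (g : Perm α) (hg : Perm.sign g = 1) {L : ℕ} {g₀ : Perm (Fin L)}
    (h : Flip g₀) {A : Multiset ℕ} (hA : A ≤ g.cycleType) (hct : g₀.cycleType = A)
    (hL : L ≤ Fintype.card α) : FlipW g := by
  obtain ⟨p, q, rfl, hd, hp, -⟩ := exists_factor A g hA
  have hf : Flip p := h.of_model (hp.trans hct.symm) hL
  refine hf.mul hd (comm0_of_even' q ?_)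
  rwa [map_mul, sign_of_comm0 hf.toComm0, one_mul] at hg

theorem flipW_one (h : 4 ≤ Fintype.card α) : FlipW (1 : Perm α) := by
  obtain ⟨i⟩ : Nonempty (Fin 4 ↪ α) :=
    Function.Embedding.nonempty_of_card_le (by rwa [Fintype.card_fin])
  have hd : ∀ u v : Fin 4, u ≠ v → i u ≠ i v := fun u v => i.injective.ne
  refine ⟨swap (i 0) (i 1) * swap (i 2) (i 3), 1, ⟨?_, by simp⟩, i 0, i 1, i 2, i 3, ?_, ?_, ?_, ?_,
    ?_⟩
  · rw [map_mul, Perm.sign_swap (hd 0 1 (by decide)), Perm.sign_swap (hd 2 3 (by decide))]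
    simp
  · exact (show ([0, 1, 2, 3] : List (Fin 4)).Nodup by decide).map i.injective
  all_goals
    simp only [Perm.mul_apply, swap_apply_def]
    simp [i.injective.eq_iff]

/-- Every even permutation of at least five points is such a commutator. -/
theorem flipW_of_even (g : Perm α) (hg : Perm.sign g = 1) (h5 : 5 ≤ Fintype.card α) : FlipW g := by
  by_cases hbig : ∃ L ∈ g.cycleType, 4 ≤ L
  · obtain ⟨L, hL, h4⟩ := hbig
    rcases Nat.even_or_odd L with he | ho
    · obtain ⟨M, hM⟩ := Multiset.exists_cons_of_mem hL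
      obtain ⟨r, hr, her⟩ := exists_even_partner hg he hM
      have hr2 : 2 ≤ r := Perm.two_le_of_mem_cycleType (hM ▸ Multiset.mem_cons_of_mem hr)
      obtain ⟨a, rfl⟩ := he
      obtain ⟨b, rfl⟩ := her
      have hle : ({2 * a, 2 * b} : Multiset ℕ) ≤ g.cycleType := by
        rw [hM, two_mul, two_mul]
        exact Multiset.cons_le_cons _ (Multiset.singleton_le.mpr hr)
      obtain ⟨N, g₀, rfl, hct, -, hc⟩ := pair_block a b (by omega) (by omega)
      exact flipW_of_block g hg (hc (by omega)) hle hct (by simpa using sum_le g hle)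
    · obtain ⟨u, hu⟩ := ho
      have hle : ({L} : Multiset ℕ) ≤ g.cycleType := Multiset.singleton_le.mpr hL
      rcases Nat.even_or_odd u with ⟨v, hv⟩ | ⟨v, hv⟩
      · exact flipW_of_block g hg (flip_cycle_one L (by omega) (by omega)) hle
          (cycleType_finRotate_of_le (by omega)) (by simpa using sum_le g hle)
      · exact flipW_of_block g hg (flip_cycle_three L (by omega) (by omega)) hle
          (cycleType_finRotate_of_le (by omega)) (by simpa using sum_le g hle)
  push Not at hbig
  obtain ⟨c₂, c₃, hM⟩ : ∃ c₂ c₃, g.cycleType = Multiset.replicate c₂ 2 + Multiset.replicate c₃ 3 := by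
    refine ⟨g.cycleType.count 2, g.cycleType.count 3, Multiset.ext' fun n => ?_⟩
    rw [Multiset.count_add, Multiset.count_replicate, Multiset.count_replicate]
    by_cases h2 : 2 = n
    · subst h2; simp
    by_cases h3 : 3 = n
    · subst h3; simp
    rw [if_neg h2, if_neg h3, add_zero, Multiset.count_eq_zero]
    intro hn
    have := hbig n hn
    have := Perm.two_le_of_mem_cycleType hn
    omega
  have hev : Even c₂ := by
    rw [Perm.sign_of_cycleType', hM] at hg
    simp only [Multiset.map_add, Multiset.map_replicate, Multiset.prod_add,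
      Multiset.prod_replicate] at hg
    rw [show (-(-1 : ℤˣ) ^ 2) = -1 by decide, show (-(-1 : ℤˣ) ^ 3) = 1 by decide, one_pow,
      mul_one] at hg
    rcases Nat.even_or_odd c₂ with h | h
    · exact h
    · rw [h.neg_one_pow] at hg
      exact absurd hg (by decide)
  obtain ⟨t, ht⟩ := hev
  have hsub : ∀ {A : Multiset ℕ} {i j : ℕ}, A = Multiset.replicate i 2 + Multiset.replicate j 3 →
      i ≤ c₂ → j ≤ c₃ → A ≤ g.cycleType := fun hA hi hj => by
    rw [hA, hM]
    exact add_le_add ((Multiset.replicate_le_replicate 2).mpr hi) ((Multiset.replicate_le_replicate 3).mpr hj)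
  have hblock : ∀ {L : ℕ} {A : Multiset ℕ}, A.sum = L →
      (∃ g₀ : Perm (Fin L), g₀.cycleType = A ∧ Flip g₀) → A ≤ g.cycleType → FlipW g := by
    rintro L A hs ⟨g₀, hct, hf⟩ hA
    exact flipW_of_block g hg hf hA hct (hs ▸ sum_le g hA)
  by_cases h4 : 4 ≤ c₂
  · exact hblock (by rfl) flip_type_four_twos (hsub (i := 4) (j := 0) (by rfl) h4 (Nat.zero_le _))
  have hc : c₂ = 0 ∨ c₂ = 2 := by omega
  rcases hc with rfl | rfl
  · by_cases h2 : 2 ≤ c₃
    · exact hblock (by rfl) flip_type_three_three (hsub (i := 0) (j := 2) (by rfl) le_rfl h2)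
    · have hc3 : c₃ = 0 ∨ c₃ = 1 := by omega
      rcases hc3 with rfl | rfl
      · rw [Perm.cycleType_eq_zero.mp (hM.trans (by rfl))]
        exact flipW_one (by omega)
      · obtain ⟨g₀, hct, hf⟩ := flipW_type_three
        exact hf.of_model (by rw [hM, hct]; rfl) h5
  · rcases Nat.eq_zero_or_pos c₃ with rfl | h3
    · obtain ⟨g₀, hct, hf⟩ := flipW_type_two_two
      exact hf.of_model (by rw [hM, hct]; rfl) h5
    · exact hblock (by rfl) flip_type_two_two_three (hsub (i := 2) (j := 1) (by rfl) le_rfl h3)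

end Cfsg.Agent.Lib.DoubleCoverComm
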