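import Cfsg.Agent.Lib.Schur.AlternatingBound
import Cfsg.Agent.Lib.DoubleCoverComm.Main

/-!
In a perfect double cover of an alternating group the lifts of two commuting double transpositions
with the same four points anticommute, and every element is a commutator.
-/

set_option autoImplicit false

namespace Cfsg.Agent.Lib.DoubleCoverComm

open Subgroup Equiv
open scoped commutatorElement
open Cfsg.Agent.Lib.AltAut (cyc cyc_apply)
open Cfsg.Agent.Lib.Schur.AlternatingBound (cA coe_cA closure_cA_eq_top)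

section Bound

variable {Γ : Type*} [Group Γ]

/-- The coset bound for a group generated by elements with Schur's relations. -/
theorem two_mul_card_closure_le [Finite Γ] {ι : Type*} [DecidableEq ι] (a : ι → Γ) {I : Γ}
    (hI : I ∈ center Γ) (hI1 : I = 1) (S : Finset ι) (h3 : ∀ i ∈ S, a i ^ 3 = I)
    (h2 : ∀ i ∈ S, ∀ j ∈ S, i ≠ j → (a i * a j) ^ 2 = I) :
    2 * Nat.card (Subgroup.closure (insert I (a '' (S : Set ι)))) ≤ (S.card + 2).factorial := by
  have hI2 : I ^ 2 = 1 := by rw [hI1, one_pow]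
  induction S using Finset.induction_on with
  | empty =>
    simp only [Finset.coe_empty, Set.image_empty, insert_empty_eq, ← zpowers_eq_closure,
      Nat.card_zpowers, Finset.card_empty, zero_add]
    rw [hI1, orderOf_one]
    decide
  | insert k S hk ih =>
    have ih := ih (fun i hi => h3 i (Finset.mem_insert_of_mem hi))
      fun i hi j hj => h2 i (Finset.mem_insert_of_mem hi) j (Finset.mem_insert_of_mem hj)
    set H := Subgroup.closure (insert I (a '' (S : Set ι))) with hH
    have hc : ∀ g, g * I = I * g := fun g => Subgroup.mem_center_iff.mp hI g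
    have hIi : I⁻¹ = I := inv_eq_of_mul_eq_one_right (by rw [← pow_two, hI2])
    have hIH : I ∈ H := Subgroup.subset_closure (Set.mem_insert _ _)
    have haH : ∀ i ∈ S, a i ∈ H := fun i hi =>
      Subgroup.subset_closure (Set.mem_insert_of_mem _ ⟨i, hi, rfl⟩)
    -- consequences of the relations
    have swap : ∀ p q : Γ, p ^ 3 = I → q ^ 3 = I → (p * q) ^ 2 = I → p * q = I * (q ^ 2 * p ^ 2) := by
      intro p q hp hq hpq
      have e1 : p * q = I * (q⁻¹ * p⁻¹) := by
        rw [← mul_inv_rev, ← hpq, pow_two, mul_inv_cancel_right]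
      have e2 : q⁻¹ = I * q ^ 2 := by
        apply inv_eq_of_mul_eq_one_right
        rw [← mul_assoc, hc, mul_assoc, ← pow_succ', hq, ← pow_two, hI2]
      have e3 : p⁻¹ = I * p ^ 2 := by
        apply inv_eq_of_mul_eq_one_right
        rw [← mul_assoc, hc, mul_assoc, ← pow_succ', hp, ← pow_two, hI2]
      rw [e1, e2, e3, ← mul_assoc (I * q ^ 2), mul_assoc I (q ^ 2) I, hc, ← mul_assoc I I, ← pow_two I,
        hI2, one_mul]
    set x := a k with hx
    have hx3 : x ^ 3 = I := h3 k (Finset.mem_insert_self k S)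
    have hy3 : ∀ i ∈ S, a i ^ 3 = I := fun i hi => h3 i (Finset.mem_insert_of_mem hi)
    have hxy : ∀ i ∈ S, (x * a i) ^ 2 = I := fun i hi =>
      h2 k (Finset.mem_insert_self k S) i (Finset.mem_insert_of_mem hi) (fun e => hk (e ▸ hi))
    have hyx : ∀ i ∈ S, (a i * x) ^ 2 = I := fun i hi =>
      h2 i (Finset.mem_insert_of_mem hi) k (Finset.mem_insert_self k S) (fun e => hk (e ▸ hi))
    have r1 : ∀ i ∈ S, x * a i = I * (a i ^ 2 * x ^ 2) :=
      fun i hi => swap _ _ hx3 (hy3 i hi) (hxy i hi)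
    have r2 : ∀ i ∈ S, a i * x = I * (x ^ 2 * a i ^ 2) :=
      fun i hi => swap _ _ (hy3 i hi) hx3 (hyx i hi)
    have r3 : ∀ i ∈ S, x ^ 2 * a i * x = I * (a i ^ 2 * (x ^ 2 * a i)) := by
      intro i hi
      rw [mul_assoc, r2 i hi, ← mul_assoc (x ^ 2) I, hc, mul_assoc I, ← mul_assoc (x ^ 2) (x ^ 2),
        ← pow_add, show 2 + 2 = 3 + 1 from rfl, pow_succ x 3, hx3, ← mul_assoc I, ← mul_assoc I I,
        ← pow_two I, hI2, one_mul, pow_two (a i), ← mul_assoc x, r1 i hi, pow_two (a i)]
      group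
    have r4 : ∀ i ∈ S, x ^ 2 * a i ^ 2 = I * (a i * x) := by
      intro i hi
      rw [r2 i hi, ← mul_assoc I I, ← pow_two I, hI2, one_mul]
    have hI' : ∀ p q : Γ, p * (I * q) = I * (p * q) := fun p q => by
      rw [← mul_assoc, hc, mul_assoc]
    have II : ∀ p : Γ, I * (I * p) = p := fun p => by rw [← mul_assoc, ← pow_two, hI2, one_mul]
    have r5 : ∀ i ∈ S, ∀ j ∈ S, i ≠ j →
        x ^ 2 * a i * a j = I * (a j * a i ^ 2) * (x ^ 2 * a i) := by
      intro i hi j hj hij
      have e := swap _ _ (hy3 i hi) (hy3 j hj)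
        (h2 i (Finset.mem_insert_of_mem hi) j (Finset.mem_insert_of_mem hj) hij)
      rw [mul_assoc (x ^ 2), e, hI', ← mul_assoc (x ^ 2), r4 j hj, mul_assoc I, II, pow_two (a i),
        mul_assoc (a j) x, ← mul_assoc x, r1 i hi, mul_assoc I, hI', pow_two (a i)]
      group
    classical
    let U : Set Γ := (H : Set Γ) ∪ (fun h => h * x) '' H ∪ (fun h => h * x ^ 2) '' H
      ∪ ⋃ i ∈ S, (fun h => h * (x ^ 2 * a i)) '' H
    have mH : ∀ h ∈ H, h ∈ U := fun h hh => Or.inl (Or.inl (Or.inl hh))
    have m1 : ∀ h ∈ H, h * x ∈ U := fun h hh => Or.inl (Or.inl (Or.inr ⟨h, hh, rfl⟩))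
    have m2 : ∀ h ∈ H, h * x ^ 2 ∈ U := fun h hh => Or.inl (Or.inr ⟨h, hh, rfl⟩)
    have m3 : ∀ i ∈ S, ∀ h ∈ H, h * (x ^ 2 * a i) ∈ U := fun i hi h hh =>
      Or.inr (Set.mem_biUnion hi ⟨h, hh, rfl⟩)
    have hright : ∀ g ∈ insert I (a '' ((insert k S : Finset ι) : Set ι)), ∀ u ∈ U, u * g ∈ U := by
      intro g hg u hu
      rw [Finset.coe_insert, Set.image_insert_eq] at hg
      rcases hu with ((hu | ⟨h, hh, rfl⟩) | ⟨h, hh, rfl⟩) | hu
      · rcases hg with rfl | rfl | ⟨j, hj, rfl⟩
        · exact mH _ (mul_mem hu hIH)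
        · exact m1 _ hu
        · exact mH _ (mul_mem hu (haH j hj))
      · rcases hg with rfl | rfl | ⟨j, hj, rfl⟩
        · rw [mul_assoc, hc, ← mul_assoc]; exact m1 _ (mul_mem hh hIH)
        · rw [mul_assoc, ← pow_two]; exact m2 _ hh
        · rw [mul_assoc, r1 j hj, ← mul_assoc, ← mul_assoc]
          exact m2 _ (mul_mem (mul_mem hh hIH) (pow_mem (haH j hj) 2))
      · rcases hg with rfl | rfl | ⟨j, hj, rfl⟩
        · rw [mul_assoc, hc, ← mul_assoc]; exact m2 _ (mul_mem hh hIH)
        · rw [mul_assoc, ← pow_succ, hx3]; exact mH _ (mul_mem hh hIH)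
        · rw [mul_assoc]; exact m3 j hj _ hh
      · obtain ⟨i, hi, h, hh, rfl⟩ := Set.mem_iUnion₂.mp hu
        rcases hg with rfl | rfl | ⟨j, hj, rfl⟩
        · rw [mul_assoc, hc, ← mul_assoc]; exact m3 i hi _ (mul_mem hh hIH)
        · rw [mul_assoc, r3 i hi, ← mul_assoc, ← mul_assoc]
          exact m3 i hi _ (mul_mem (mul_mem hh hIH) (pow_mem (haH i hi) 2))
        · by_cases hij : i = j
          · subst hij
            rw [mul_assoc, mul_assoc (x ^ 2), ← pow_two, r4 i hi, ← mul_assoc, ← mul_assoc]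
            exact m1 _ (mul_mem (mul_mem hh hIH) (haH i hi))
          · rw [mul_assoc, r5 i hi j hj hij, ← mul_assoc]
            exact m3 i hi _ (mul_mem hh (mul_mem hIH (mul_mem (haH j hj) (pow_mem (haH i hi) 2))))
    have hright' : ∀ g ∈ insert I (a '' ((insert k S : Finset ι) : Set ι)), ∀ u ∈ U, u * g⁻¹ ∈ U := by
      intro g hg u hu
      have he : (fun v => v * g) '' U = U :=
        Set.eq_of_subset_of_ncard_le (by rintro _ ⟨v, hv, rfl⟩; exact hright g hg v hv)
          (by rw [Set.ncard_image_of_injective U (mul_left_injective g)]) (Set.toFinite U)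
      rw [← he] at hu
      obtain ⟨v, hv, rfl⟩ := hu
      simpa using hv
    have hsub : (Subgroup.closure (insert I (a '' ((insert k S : Finset ι) : Set ι))) : Set Γ) ⊆ U := by
      intro g hg
      induction hg using Subgroup.closure_induction_right with
      | one => exact mH 1 H.one_mem
      | mul_right u hu g hg hmem => exact hright g hg u hmem
      | mul_inv_cancel u hu g hg hmem => exact hright' g hg u hmem
    rw [Finset.card_insert_of_notMem hk]
    calc 2 * Nat.card (Subgroup.closure (insert I (a '' ((insert k S : Finset ι) : Set ι))))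
        ≤ 2 * U.ncard := Nat.mul_le_mul_left 2 (by
          rw [← SetLike.coe_sort_coe, Nat.card_coe_set_eq]
          exact Set.ncard_le_ncard hsub (Set.toFinite U))
      _ ≤ 2 * ((H : Set Γ).ncard + (H : Set Γ).ncard + (H : Set Γ).ncard
            + S.card * (H : Set Γ).ncard) := by
          refine Nat.mul_le_mul_left 2 ?_
          refine (Set.ncard_union_le _ _).trans (add_le_add ?_ ?_)
          · refine (Set.ncard_union_le _ _).trans (add_le_add ?_ (Set.ncard_image_le (Set.toFinite _)))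
            exact (Set.ncard_union_le _ _).trans
              (add_le_add le_rfl (Set.ncard_image_le (Set.toFinite _)))
          · refine (Finset.set_ncard_biUnion_le _ _).trans ?_
            exact (Finset.sum_le_card_nsmul _ _ _ fun i _ =>
              Set.ncard_image_le (Set.toFinite _)).trans (by rw [smul_eq_mul])
      _ = (S.card + 1 + 2) * (2 * Nat.card H) := by
          rw [← SetLike.coe_sort_coe, Nat.card_coe_set_eq]; ring
      _ ≤ (S.card + 1 + 2) * (S.card + 2).factorial := Nat.mul_le_mul_left _ ih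
      _ = (S.card + 1 + 2).factorial := by rw [show S.card + 1 + 2 = (S.card + 2) + 1 by ring]; rfl

end Bound

section Cover

theorem commutator_central {H : Type*} [Group H] (a b : H) {u v : H} (hu : ∀ g, Commute u g)
    (hv : ∀ g, Commute v g) : ⁅a * u, b * v⁆ = ⁅a, b⁆ := by
  simp only [commutatorElement_def, mul_inv_rev]
  calc a * u * (b * v) * (u⁻¹ * a⁻¹) * (v⁻¹ * b⁻¹)
      = a * (u * b) * (v * (u⁻¹ * a⁻¹)) * v⁻¹ * b⁻¹ := by group
    _ = a * b * (u * (u⁻¹ * a⁻¹)) * (v * v⁻¹) * b⁻¹ := by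
        rw [(hu b).eq, (hv _).eq]; group
    _ = a * b * a⁻¹ * b⁻¹ := by group

variable {α : Type*} [Fintype α] [DecidableEq α] {G : Type*} [Group G] [Finite G]
  {σ : G →* alternatingGroup α}

/-- The product of two disjoint transpositions. -/
def dt (a b c d : α) : Perm α := swap a b * swap c d

omit [Fintype α] in
theorem nodup_four {a b c d : α} (h : [a, b, c, d].Nodup) :
    a ≠ b ∧ a ≠ c ∧ a ≠ d ∧ b ≠ c ∧ b ≠ d ∧ c ≠ d := by
  simp only [List.nodup_cons, List.mem_cons, List.not_mem_nil, or_false, not_or] at h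
  tauto

omit [Fintype α] in
theorem dt_apply {a b c d : α} (h : [a, b, c, d].Nodup) (z : α) :
    dt a b c d z = if z = a then b else if z = b then a else if z = c then d
      else if z = d then c else z := by
  obtain ⟨h1, h2, h3, h4, h5, h6⟩ := nodup_four h
  simp only [dt, Perm.mul_apply, swap_apply_def]
  grind

theorem dt_mem {a b c d : α} (h : [a, b, c, d].Nodup) : dt a b c d ∈ alternatingGroup α := by
  obtain ⟨h1, -, -, -, -, h6⟩ := nodup_four h
  rw [Perm.mem_alternatingGroup, dt, map_mul, Perm.sign_swap h1, Perm.sign_swap h6]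
  simp

omit [Fintype α] in
theorem dt_mul_dt {a b c d : α} (h : [a, b, c, d].Nodup) :
    dt a b c d * dt a c b d = dt a d b c ∧ dt a c b d * dt a b c d = dt a d b c := by
  have h' := nodup_four h
  constructor <;> (ext z; simp only [Perm.mul_apply]
    <;> simp only [dt, Perm.mul_apply, swap_apply_def] <;> grind)

theorem cycleType_dt {a b c d : α} (h : [a, b, c, d].Nodup) : (dt a b c d).cycleType = {2, 2} := by
  obtain ⟨h1, h2, h3, h4, h5, h6⟩ := nodup_four h
  have hd : (swap a b).Disjoint (swap c d) := by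
    intro z
    simp only [swap_apply_def]
    grind
  rw [dt, hd.cycleType_mul, (Perm.isCycle_swap h1).cycleType, (Perm.isCycle_swap h6).cycleType,
    Perm.card_support_swap h1, Perm.card_support_swap h6]
  rfl

theorem exists_conj_dt {a b c d p q r s : α} (h : [a, b, c, d].Nodup) (h' : [p, q, r, s].Nodup) :
    ∃ g : alternatingGroup α, (g : Perm α) * dt a b c d * (g : Perm α)⁻¹ = dt p q r s := by
  obtain ⟨c₀, hc⟩ := isConj_iff.mp
    (Perm.isConj_iff_cycleType_eq.mpr ((cycleType_dt h).trans (cycleType_dt h').symm))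
  rcases Int.units_eq_one_or (Perm.sign c₀) with h1 | h1
  · exact ⟨⟨c₀, Perm.mem_alternatingGroup.mpr h1⟩, hc⟩
  · obtain ⟨hab, h2, h3, h4, h5, h6⟩ := nodup_four h
    refine ⟨⟨c₀ * swap a b, Perm.mem_alternatingGroup.mpr ?_⟩, ?_⟩
    · rw [map_mul, h1, Perm.sign_swap hab]; rfl
    · have hcomm : swap a b * dt a b c d * swap a b = dt a b c d := by
        ext z
        simp only [dt, Perm.mul_apply, swap_apply_def]
        grind
      show c₀ * swap a b * dt a b c d * (c₀ * swap a b)⁻¹ = dt p q r s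
      rw [mul_inv_rev, Equiv.swap_inv, ← hc]
      calc c₀ * swap a b * dt a b c d * (swap a b * c₀⁻¹)
          = c₀ * (swap a b * dt a b c d * swap a b) * c₀⁻¹ := by group
        _ = _ := by rw [hcomm]

/-- Elements of the kernel are central of square one. -/
theorem ker_facts (hc : σ.ker ≤ center G) (hk : Nat.card σ.ker = 2) {w : G} (hw : σ w = 1) :
    (∀ g, g * w = w * g) ∧ w * w = 1 := by
  refine ⟨Subgroup.mem_center_iff.mp (hc hw), ?_⟩
  have : (⟨w, hw⟩ : σ.ker) ^ 2 = 1 := by rw [← hk]; exact pow_card_eq_one'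
  rw [← pow_two]
  exact congrArg Subtype.val this

/-- Commutation of two elements does not depend on the choice of lifts. -/
theorem commute_of_lifts (hc : σ.ker ≤ center G) {S S' T T' : G} (hS : σ S' = σ S) (hT : σ T' = σ T)
    (h : Commute S T) : Commute S' T' := by
  have e1 : ∀ g, Commute (S⁻¹ * S') g := fun g =>
    (Subgroup.mem_center_iff.mp (hc (by simp [MonoidHom.mem_ker, hS])) g).symm
  have e2 : ∀ g, Commute (T⁻¹ * T') g := fun g =>
    (Subgroup.mem_center_iff.mp (hc (by simp [MonoidHom.mem_ker, hT])) g).symm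
  have h' : Commute (S * (S⁻¹ * S')) (T * (T⁻¹ * T')) :=
    Commute.mul_left (h.mul_right ((e2 S).symm)) (e1 _)
  simpa using h'

theorem not_commute_lifts (hs : Function.Surjective σ) (hc : σ.ker ≤ center G)
    (hk : Nat.card σ.ker = 2) (hperf : commutator G = ⊤) (h5 : 5 ≤ Fintype.card α)
    {a b c d : α} (hn : [a, b, c, d].Nodup) {S T : G} (hT : (σ T : Perm α) = dt a b c d)
    (hS : (σ S : Perm α) = dt a c b d) : T * S ≠ S * T := by
  intro hcomm
  have hn2 : [a, c, b, d].Nodup := by
    have := nodup_four hn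
    simp; grind
  have hn3 : [a, d, b, c].Nodup := by
    have := nodup_four hn
    simp; grind
  -- all lifts of double transpositions have the same square
  have hsq : ∀ p q r s : α, [p, q, r, s].Nodup → ∀ w : G, (σ w : Perm α) = dt p q r s →
      w * w = T * T := by
    intro p q r s hpq w hw
    obtain ⟨g, hg⟩ := exists_conj_dt hn hpq
    obtain ⟨u, rfl⟩ := hs g
    set v := u * T * u⁻¹ with hv
    have hσ : σ (v⁻¹ * w) = 1 := by
      apply Subtype.ext
      rw [map_mul, map_inv, Subgroup.coe_mul, Subgroup.coe_inv, hw, hv, map_mul, map_mul, map_inv,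
        Subgroup.coe_mul, Subgroup.coe_mul, Subgroup.coe_inv, hT, hg]
      simp
    obtain ⟨hz, hz2⟩ := ker_facts hc hk hσ
    have hvv : v * v = T * T := by
      have hTT : σ (T * T) = 1 := by
        apply Subtype.ext
        rw [map_mul, Subgroup.coe_mul, hT]
        ext z
        simp only [Perm.mul_apply, dt_apply hn, Subgroup.coe_one, Perm.one_apply]
        have := nodup_four hn
        grind
      rw [hv, show u * T * u⁻¹ * (u * T * u⁻¹) = u * (T * T) * u⁻¹ by group,
        (ker_facts hc hk hTT).1 u, mul_inv_cancel_right]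
    calc w * w = v * (v⁻¹ * w) * (v * (v⁻¹ * w)) := by group
      _ = v * ((v⁻¹ * w) * v) * (v⁻¹ * w) := by group
      _ = v * v * ((v⁻¹ * w) * (v⁻¹ * w)) := by rw [← hz v]; group
      _ = T * T := by rw [hz2, hvv, mul_one]
  have hone : T * T = 1 := by
    have h1 := hsq a c b d hn2 S hS
    have h2 := hsq a d b c hn3 (T * S) (by rw [map_mul, Subgroup.coe_mul, hT, hS, (dt_mul_dt hn).1])
    have : T * S * (T * S) = T * T * (S * S) := by
      rw [show T * S * (T * S) = T * (S * T) * S by group, ← hcomm]; group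
    rw [this, h1] at h2
    exact mul_eq_left.mp h2
  -- the lifts of three-cycles generate a complement
  obtain ⟨o⟩ : Nonempty α := Fintype.card_pos_iff.mp (by omega)
  obtain ⟨u, hu⟩ := Fintype.exists_ne_of_one_lt_card (by omega : 1 < Fintype.card α) o
  have hou : o ≠ u := hu.symm
  classical
  let A : α → G := fun i => Function.surjInv hs (cA o u i) ^ 4
  have hA : ∀ i, o ≠ i → u ≠ i → σ (A i) = cA o u i ∧ A i ^ 3 = 1 := by
    intro i hoi hui
    have h3 : cA o u i ^ 3 = 1 := by
      refine Subtype.ext ?_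
      rw [SubgroupClass.coe_pow, coe_cA hou hoi hui, Subgroup.coe_one]
      have := (Cfsg.Agent.Lib.AltAut.isThreeCycle_cyc hou hoi hui).orderOf
      rw [← this, pow_orderOf_eq_one]
    refine ⟨?_, ?_⟩
    · show σ (_ ^ 4) = _
      rw [map_pow, Function.surjInv_eq hs, pow_succ, h3, one_mul]
    · show (_ ^ 4) ^ 3 = 1
      have := (ker_facts hc hk (w := Function.surjInv hs (cA o u i) ^ 3)
        (by rw [map_pow, Function.surjInv_eq hs, h3])).2
      rw [← pow_mul, show 4 * 3 = 3 * 2 * 2 from rfl, pow_mul, pow_mul, pow_two (_ ^ 3), this, one_pow]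
  set I : Finset α := {o, u}ᶜ with hI
  have hmem : ∀ i ∈ I, o ≠ i ∧ u ≠ i := fun i hi => by
    simp [hI] at hi; exact ⟨Ne.symm hi.1, Ne.symm hi.2⟩
  have hrel : ∀ i ∈ I, ∀ j ∈ I, i ≠ j → (A i * A j) ^ 2 = 1 := by
    intro i hi j hj hij
    obtain ⟨hoi, hui⟩ := hmem i hi
    obtain ⟨hoj, huj⟩ := hmem j hj
    have hnd : [o, i, u, j].Nodup := by simp; grind
    rw [pow_two, hsq o i u j hnd, hone]
    rw [map_mul, (hA i hoi hui).1, (hA j hoj huj).1, Subgroup.coe_mul, coe_cA hou hoi hui,
      coe_cA hou hoj huj]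
    ext z
    simp only [Perm.mul_apply, cyc_apply hou hoi hui, cyc_apply hou hoj huj, dt_apply hnd]
    grind
  have hb := two_mul_card_closure_le A (I := 1) (one_mem _) rfl I
    (fun i hi => (hA i (hmem i hi).1 (hmem i hi).2).2) hrel
  set K := Subgroup.closure (insert 1 (A '' (I : Set α)))
  have hIcard : I.card + 2 = Fintype.card α := by
    rw [hI, Finset.card_compl, Finset.card_pair hou]; omega
  rw [hIcard] at hb
  have hmap : K.map σ = ⊤ := by
    rw [eq_top_iff, ← closure_cA_eq_top hou, Subgroup.closure_le]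
    rintro _ ⟨i, ⟨hio, hiu⟩, rfl⟩
    exact ⟨A i, Subgroup.subset_closure (Set.mem_insert_of_mem _ ⟨i, by simp [hI, hio, hiu], rfl⟩),
      (hA i (Ne.symm hio) (Ne.symm hiu)).1⟩
  have hKtop : K = ⊤ := by
    rw [eq_top_iff, ← hperf, commutator_def, Subgroup.commutator_le]
    intro g₁ _ g₂ _
    obtain ⟨k₁, hk₁, e₁⟩ : σ g₁ ∈ K.map σ := by rw [hmap]; trivial
    obtain ⟨k₂, hk₂, e₂⟩ : σ g₂ ∈ K.map σ := by rw [hmap]; trivial
    have c1 : ∀ g, Commute (k₁⁻¹ * g₁) g := fun g =>
      (Subgroup.mem_center_iff.mp (hc (by simp [MonoidHom.mem_ker, e₁])) g).symm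
    have c2 : ∀ g, Commute (k₂⁻¹ * g₂) g := fun g =>
      (Subgroup.mem_center_iff.mp (hc (by simp [MonoidHom.mem_ker, e₂])) g).symm
    have := Cfsg.Agent.Lib.DoubleCoverComm.commutator_central k₁ k₂ c1 c2
    rw [mul_inv_cancel_left, mul_inv_cancel_left] at this
    rw [this, commutatorElement_def]
    exact K.mul_mem (K.mul_mem (K.mul_mem hk₁ hk₂) (K.inv_mem hk₁)) (K.inv_mem hk₂)
  haveI : Nontrivial α := Fintype.one_lt_card_iff_nontrivial.mp (by omega)
  have hG : Nat.card G = (Fintype.card α).factorial := by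
    rw [← σ.ker.index_mul_card, hk, Subgroup.index_ker, MonoidHom.range_eq_top_of_surjective σ hs,
      Subgroup.card_top, mul_comm]
    rw [Nat.card_eq_fintype_card, two_mul_card_alternatingGroup, Fintype.card_perm]
  rw [hKtop, Subgroup.card_top, hG] at hb
  have := Nat.factorial_pos (Fintype.card α)
  omega

end Cover

end Cfsg.Agent.Lib.DoubleCoverComm
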