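import Cfsg.Agent.Lib.DoubleCoverComm.Perms

/-!
Commutator blocks for pairs of cycles of even length.
-/

set_option autoImplicit false
set_option maxHeartbeats 1000000

namespace Cfsg.Agent.Lib.DoubleCoverComm

open Equiv

/-- The pair of rotations. -/
def gP (m r j : ℕ) : ℕ :=
  if j < m then (if j + 1 = m then 0 else j + 1) else (if j + 1 = m + r then m else j + 1)

theorem val_join_gP {m r : ℕ} (j : Fin (m + r)) :
    (join (finRotate m) (finRotate r) j : ℕ) = gP m r j := val_join_finRotate j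

theorem gP_cases (m r j : ℕ) (hj : j < m + r) :
    (j + 1 = m ∧ gP m r j = 0) ∨ (j + 1 = m + r ∧ m ≤ j ∧ gP m r j = m) ∨
      (j + 1 ≠ m ∧ j + 1 ≠ m + r ∧ gP m r j = j + 1) ∨
      (j < m ∧ j + 1 ≠ m ∧ gP m r j = j + 1) := by
  unfold gP
  split_ifs <;> omega

/-- First entry, `a + b` odd. -/
def xO (a b j : ℕ) : ℕ :=
  if j < 2 * a then (if j = 0 then 0 else 2 * a - j) else 2 * a + 2 * b + 2 * a - 1 - j

/-- Second entry, `a + b` odd. -/
def kO (a b j : ℕ) : ℕ :=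
  if j = 0 then 2 * a + b - 1 else if j < a then j - 1 else if j = a then 2 * a + 2 * b - 1
  else if j < 2 * a + b - 1 then j else if j = 2 * a + b - 1 then a - 1
  else if j = 2 * a + b then a else j - 1

theorem xO_cases (a b j : ℕ) (hj : j < 2 * a + 2 * b) :
    (j = 0 ∧ 0 < a ∧ xO a b j = 0) ∨ (0 < j ∧ j < 2 * a ∧ xO a b j + j = 2 * a) ∨
      (2 * a ≤ j ∧ xO a b j + j + 1 = 2 * a + 2 * b + 2 * a) ∨ (j = 0 ∧ a = 0) := by
  unfold xO
  split_ifs <;> omega

theorem kO_cases (a b j : ℕ) :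
    (j = 0 ∧ kO a b j = 2 * a + b - 1) ∨ (0 < j ∧ j < a ∧ kO a b j = j - 1) ∨
      (0 < j ∧ j = a ∧ kO a b j = 2 * a + 2 * b - 1) ∨
      (a < j ∧ j < 2 * a + b - 1 ∧ kO a b j = j) ∨
      (a < j ∧ j = 2 * a + b - 1 ∧ kO a b j = a - 1) ∨
      (a < j ∧ j = 2 * a + b ∧ kO a b j = a) ∨
      (a < j ∧ 2 * a + b < j ∧ kO a b j = j - 1) ∨ (2 * a + b ≤ a + 1) := by
  unfold kO
  split_ifs <;> omega

section Odd

variable {a b : ℕ}

theorem xO_lt (ha : 1 ≤ a) (j : ℕ) (hj : j < 2 * a + 2 * b) : xO a b j < 2 * a + 2 * b := by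
  rcases xO_cases a b j hj with h | h | h | h <;> omega

theorem kO_lt (ha : 1 ≤ a) (hb : 1 ≤ b) (j : ℕ) (hj : j < 2 * a + 2 * b) :
    kO a b j < 2 * a + 2 * b := by
  rcases kO_cases a b j with h | h | h | h | h | h | h | h <;> omega

theorem xO_xO (ha : 1 ≤ a) (j : ℕ) (hj : j < 2 * a + 2 * b) : xO a b (xO a b j) = j := by
  rcases xO_cases a b j hj with h | h | h | h <;>
    rcases xO_cases a b _ (xO_lt ha j hj) with h' | h' | h' | h' <;> omega

theorem xO_inj (ha : 1 ≤ a) (i : ℕ) (hi : i < 2 * a + 2 * b) (j : ℕ) (hj : j < 2 * a + 2 * b)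
    (h : xO a b i = xO a b j) : i = j := by
  rw [← xO_xO ha i hi, h, xO_xO ha j hj]

theorem kO_inj (ha : 1 ≤ a) (hb : 1 ≤ b) (i : ℕ) (hi : i < 2 * a + 2 * b) (j : ℕ)
    (hj : j < 2 * a + 2 * b) (h : kO a b i = kO a b j) : i = j := by
  rcases kO_cases a b i with hi' | hi' | hi' | hi' | hi' | hi' | hi' | hi' <;>
    rcases kO_cases a b j with hj' | hj' | hj' | hj' | hj' | hj' | hj' | hj' <;> omega

theorem eq_odd (ha : 1 ≤ a) (hb : 1 ≤ b) (hab : (a + b) % 2 = 1) (j : ℕ) (hj : j < 2 * a + 2 * b) :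
    gP (2 * a) (2 * b) (kO a b (xO a b j)) = xO a b (kO a b j) := by
  have hu := xO_lt ha j hj
  have hw := kO_lt ha hb j hj
  have hv := kO_lt ha hb _ hu
  rcases kO_cases a b j with hk | hk | hk | hk | hk | hk | hk | hk <;>
    (rcases xO_cases a b j hj with hx | hx | hx | hx <;>
      first
        | omega
        | (rcases xO_cases a b _ hw with hz | hz | hz | hz <;>
            first
              | omega
              | (rcases kO_cases a b (xO a b j) with hq | hq | hq | hq | hq | hq | hq | hq <;>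
                  first
                    | omega
                    | (rcases gP_cases (2 * a) (2 * b) _ hv with hg | hg | hg | hg <;> omega))))

end Odd

theorem flip_pair_odd (a b : ℕ) (ha : 1 ≤ a) (hb : 1 ≤ b) (hab : (a + b) % 2 = 1) :
    Flip (join (finRotate (2 * a)) (finRotate (2 * b))) := by
  let x := mkP (2 * a + 2 * b) (xO a b) (xO_lt ha) (xO_inj ha)
  let k := mkP (2 * a + 2 * b) (kO a b) (kO_lt ha hb) (kO_inj ha hb)
  have hv : ∀ j, (x j : ℕ) = xO a b j := fun j => rfl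
  have hsign : Perm.sign x = 1 := by
    refine sign_eq_one_of_fix (Perm.ext fun j => Fin.ext ?_) {⟨0, by omega⟩, ⟨a, by omega⟩}
      (fun j => ?_) ?_
    · rw [Perm.mul_apply, hv, hv, xO_xO ha _ j.isLt, Perm.one_apply]
    · simp only [Finset.mem_singleton, Finset.mem_insert, Fin.ext_iff, hv]
      rcases xO_cases a b j j.isLt with h | h | h | h <;> omega
    · rw [Finset.card_pair (by simp [Fin.ext_iff]; omega)]
      omega
  refine ⟨x, k, ⟨hsign, ?_⟩, confined_of_fpf (join_finRotate_ne (by omega) (by omega)), ?_⟩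
  · ext j
    simp only [Perm.mul_apply, val_join_gP, val_mkP, x, k]
    exact eq_odd ha hb hab j j.isLt
  · by_cases h2 : 2 ≤ a
    · refine swapPairs_mkP _ _ 1 (2 * a - 1) (2 * a) (2 * a + 2 * b - 1) (by omega) (by omega)
        (by omega) (by omega) (by omega) ?_
      refine ⟨?_, ?_, ?_, ?_⟩ <;> (unfold xO; split_ifs <;> (first | contradiction | omega))
    · refine swapPairs_mkP _ _ (2 * a) (2 * a + 2 * b - 1) (2 * a + 1) (2 * a + 2 * b - 2)
        (by omega) (by omega) (by omega) (by omega) (by omega) ?_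
      refine ⟨?_, ?_, ?_, ?_⟩ <;> (unfold xO; split_ifs <;> (first | contradiction | omega))

/-- First entry, `a + b` even. -/
def xE (a b j : ℕ) : ℕ :=
  if j = 0 then 1 else if j = 1 then 2 * a else if j = 2 * a then 0
  else if j < 2 * a ∨ 2 * b + 2 ≤ j then 2 * a + 2 * b + 1 - j else 2 * a + 2 * b + 2 - j

/-- Second entry, `a + b` even. -/
def kE (a b j : ℕ) : ℕ :=
  if j = 0 then 2 * a - 1 else if j = 1 then 2 * b + 1 else if j < 2 * a then j - 1
  else if j = a + b + 1 then 0 else if j < a + b + 1 ∨ 2 * b + 2 ≤ j then j else j - 1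

section Even

variable {a b : ℕ}

theorem xE_cases (a b j : ℕ) :
    (j = 0 ∧ xE a b j = 1) ∨ (j = 1 ∧ xE a b j = 2 * a) ∨ (1 < j ∧ j = 2 * a ∧ xE a b j = 0) ∨
      (1 < j ∧ j < 2 * a ∧ xE a b j = 2 * a + 2 * b + 1 - j) ∨
      (1 < j ∧ 2 * a < j ∧ 2 * b + 2 ≤ j ∧ xE a b j = 2 * a + 2 * b + 1 - j) ∨
      (1 < j ∧ 2 * a < j ∧ j < 2 * b + 2 ∧ xE a b j = 2 * a + 2 * b + 2 - j) := by
  unfold xE
  split_ifs <;> omega

theorem kE_cases (a b j : ℕ) :
    (j = 0 ∧ kE a b j = 2 * a - 1) ∨ (j = 1 ∧ kE a b j = 2 * b + 1) ∨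
      (1 < j ∧ j < 2 * a ∧ kE a b j = j - 1) ∨
      (1 < j ∧ 2 * a ≤ j ∧ j = a + b + 1 ∧ kE a b j = 0) ∨
      (1 < j ∧ 2 * a ≤ j ∧ j < a + b + 1 ∧ kE a b j = j) ∨
      (1 < j ∧ 2 * a ≤ j ∧ j ≠ a + b + 1 ∧ 2 * b + 2 ≤ j ∧ kE a b j = j) ∨
      (1 < j ∧ 2 * a ≤ j ∧ a + b + 1 < j ∧ j < 2 * b + 2 ∧ kE a b j = j - 1) := by
  unfold kE
  split_ifs <;> omega

theorem xE_lt (ha : 1 ≤ a) (hle : a ≤ b) (j : ℕ) (hj : j < 2 * a + 2 * b) :
    xE a b j < 2 * a + 2 * b := by
  rcases xE_cases a b j with h | h | h | h | h | h <;> omega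

theorem kE_lt (ha : 1 ≤ a) (hle : a ≤ b) (j : ℕ) (hj : j < 2 * a + 2 * b) :
    kE a b j < 2 * a + 2 * b := by
  rcases kE_cases a b j with h | h | h | h | h | h | h <;> omega

theorem xE_inj (ha : 1 ≤ a) (hle : a ≤ b) (i : ℕ) (hi : i < 2 * a + 2 * b) (j : ℕ)
    (hj : j < 2 * a + 2 * b) (h : xE a b i = xE a b j) : i = j := by
  rcases xE_cases a b i with hi' | hi' | hi' | hi' | hi' | hi' <;>
    rcases xE_cases a b j with hj' | hj' | hj' | hj' | hj' | hj' <;> omega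

theorem kE_inj (ha : 1 ≤ a) (hle : a ≤ b) (i : ℕ) (hi : i < 2 * a + 2 * b) (j : ℕ)
    (hj : j < 2 * a + 2 * b) (h : kE a b i = kE a b j) : i = j := by
  rcases kE_cases a b i with hi' | hi' | hi' | hi' | hi' | hi' | hi' <;>
    rcases kE_cases a b j with hj' | hj' | hj' | hj' | hj' | hj' | hj' <;> omega

theorem xE_xE (ha : 1 ≤ a) (hle : a ≤ b) (j : ℕ) (hj : j < 2 * a + 2 * b) (h0 : j ≠ 0) (h1 : j ≠ 1)
    (h2 : j ≠ 2 * a) : xE a b (xE a b j) = j := by
  rcases xE_cases a b j with h | h | h | h | h | h <;>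
    rcases xE_cases a b (xE a b j) with h' | h' | h' | h' | h' | h' <;> omega

theorem eq_even (ha : 1 ≤ a) (hle : a ≤ b) (hab : (a + b) % 2 = 0) (j : ℕ)
    (hj : j < 2 * a + 2 * b) :
    gP (2 * a) (2 * b) (kE a b (xE a b j)) = xE a b (kE a b j) := by
  have hu := xE_lt ha hle j hj
  have hv := kE_lt ha hle _ hu
  rcases kE_cases a b j with hk | hk | hk | hk | hk | hk | hk <;>
    (rcases xE_cases a b j with hx | hx | hx | hx | hx | hx <;>
      first
        | omega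
        | (rcases xE_cases a b (kE a b j) with hz | hz | hz | hz | hz | hz <;>
            first
              | omega
              | (rcases kE_cases a b (xE a b j) with hq | hq | hq | hq | hq | hq | hq <;>
                  first
                    | omega
                    | (rcases gP_cases (2 * a) (2 * b) _ hv with hg | hg | hg | hg <;> omega))))

theorem sign_xE (ha : 1 ≤ a) (hle : a ≤ b) (hab : (a + b) % 2 = 0) :
    Perm.sign (mkP (2 * a + 2 * b) (xE a b) (xE_lt ha hle) (xE_inj ha hle)) = 1 := by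
  set x := mkP (2 * a + 2 * b) (xE a b) (xE_lt ha hle) (xE_inj ha hle) with hx
  have hv : ∀ j, (x j : ℕ) = xE a b j := fun j => rfl
  have e0 : xE a b 0 = 1 := by unfold xE; simp
  have e1 : xE a b 1 = 2 * a := by unfold xE; simp
  have e2 : xE a b (2 * a) = 0 := by
    unfold xE
    rw [if_neg (by omega), if_neg (by omega), if_pos rfl]
  have h3 : ∀ j : Fin (2 * a + 2 * b), (((j : ℕ) = 0 ∨ (j : ℕ) = 1 ∨ (j : ℕ) = 2 * a) ∧
      (x * x * x) j = j) ∨
      (((j : ℕ) ≠ 0 ∧ (j : ℕ) ≠ 1 ∧ (j : ℕ) ≠ 2 * a) ∧ (x * x * x) j = x j) := by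
    intro j
    rw [Perm.mul_apply, Perm.mul_apply]
    by_cases h : (j : ℕ) = 0 ∨ (j : ℕ) = 1 ∨ (j : ℕ) = 2 * a
    · refine Or.inl ⟨h, Fin.ext ?_⟩
      rw [hv, hv, hv]
      rcases h with h | h | h <;> simp only [h, e0, e1, e2]
    · push Not at h
      refine Or.inr ⟨h, congrArg x (Fin.ext ?_)⟩
      rw [hv, hv, xE_xE ha hle _ j.isLt h.1 h.2.1 h.2.2]
  refine sign_cube x (sign_eq_one_of_fix (Perm.ext fun j => ?_)
    {⟨0, by omega⟩, ⟨1, by omega⟩, ⟨2 * a, by omega⟩, ⟨a + b + 1, by omega⟩} (fun j => ?_) ?_)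
  · rw [Perm.mul_apply, Perm.one_apply]
    rcases h3 j with ⟨-, h⟩ | ⟨hj, h⟩
    · rw [h, h]
    · rw [h]
      rcases h3 (x j) with ⟨hj', -⟩ | ⟨-, h'⟩
      · rw [hv] at hj'
        have := xE_xE ha hle _ j.isLt hj.1 hj.2.1 hj.2.2
        rcases hj' with e | e | e <;> rw [e] at this <;> simp only [e0, e1, e2] at this <;> omega
      · rw [h']
        exact Fin.ext (by rw [hv, hv, xE_xE ha hle _ j.isLt hj.1 hj.2.1 hj.2.2])
  · simp only [Finset.mem_singleton, Finset.mem_insert, Fin.ext_iff]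
    rcases h3 j with ⟨hj, h⟩ | ⟨hj, h⟩
    · rw [h]
      omega
    · rw [h, hv]
      have := j.isLt
      rcases xE_cases a b j with h | h | h | h | h | h <;> omega
  · rw [Finset.card_insert_of_notMem (by simp [Fin.ext_iff]; omega),
      Finset.card_insert_of_notMem (by simp [Fin.ext_iff]; omega),
      Finset.card_pair (by simp [Fin.ext_iff]; omega)]
    omega

end Even

theorem pair_even (a b : ℕ) (ha : 1 ≤ a) (hab : (a + b) % 2 = 0) (hle : a ≤ b) :
    Comm0 (join (finRotate (2 * a)) (finRotate (2 * b))) ∧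
      (4 ≤ a + b → Flip (join (finRotate (2 * a)) (finRotate (2 * b)))) := by
  let x := mkP (2 * a + 2 * b) (xE a b) (xE_lt ha hle) (xE_inj ha hle)
  let k := mkP (2 * a + 2 * b) (kE a b) (kE_lt ha hle) (kE_inj ha hle)
  have hrep : Rep (join (finRotate (2 * a)) (finRotate (2 * b))) x k := by
    refine ⟨sign_xE ha hle hab, ?_⟩
    ext j
    simp only [Perm.mul_apply, val_join_gP, val_mkP, x, k]
    exact eq_even ha hle hab j j.isLt
  have hcf : Confined (join (finRotate (2 * a)) (finRotate (2 * b))) x k :=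
    confined_of_fpf (join_finRotate_ne (by omega) (by omega))
  refine ⟨⟨x, k, hrep, hcf⟩, fun h4 => ⟨x, k, hrep, hcf, ?_⟩⟩
  by_cases h2 : 2 ≤ a
  · refine swapPairs_mkP _ _ 2 (2 * a + 2 * b - 1) 3 (2 * a + 2 * b - 2) (by omega) (by omega)
      (by omega) (by omega) (by omega) ?_
    refine ⟨?_, ?_, ?_, ?_⟩ <;> (unfold xE; split_ifs <;> (first | contradiction | omega))
  · refine swapPairs_mkP _ _ 3 (2 * a + 2 * b - 1) 4 (2 * a + 2 * b - 2) (by omega) (by omega)
      (by omega) (by omega) (by omega) ?_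
    refine ⟨?_, ?_, ?_, ?_⟩ <;> (unfold xE; split_ifs <;> (first | contradiction | omega))

end Cfsg.Agent.Lib.DoubleCoverComm
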