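import Cfsg.Agent.Lib.DoubleCoverComm.Blocks

/-!
Every even permutation of at least five points is a commutator `x * k * x⁻¹ * k⁻¹` with `x` even
and interchanging two pairs of points.
-/

set_option autoImplicit false
set_option maxHeartbeats 1000000

namespace Cfsg.Agent.Lib.DoubleCoverComm

open Equiv

/-- Half turn against reflection on an odd cycle. -/
theorem comm0_cycle (L : ℕ) (hodd : L % 2 = 1) (h3 : 3 ≤ L) : Comm0 (finRotate L) := by
  set d := (L + 1) / 2 with hd
  let k := mkP L (fun j => if j = 0 then 0 else L - j)
    (fun j hj => by split_ifs <;> (first | contradiction | omega))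
    (fun i hi j hj h' => by split_ifs at h' <;> omega)
  have hpow : ∀ e ≤ L, ∀ j : Fin L, ((finRotate L ^ e) j : ℕ) =
      if (j : ℕ) + e < L then (j : ℕ) + e else (j : ℕ) + e - L := by
    intro e he j
    induction e with
    | zero => simp
    | succ e ih =>
      rw [pow_succ', Perm.mul_apply, val_finRotate, ih (by omega)]
      have := j.isLt
      split_ifs <;> (first | contradiction | omega)
  have hs : Perm.sign (finRotate L) = 1 := by
    rw [Perm.sign_of_cycleType, cycleType_finRotate_of_le (by omega : 2 ≤ L)]
    simp only [Multiset.sum_singleton, Multiset.card_singleton]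
    rw [Even.neg_one_pow ⟨(L + 1) / 2, by omega⟩]
  refine ⟨finRotate L ^ d, k, ⟨by rw [map_pow, hs, one_pow], ?_⟩, fun y hy => absurd hy ?_⟩
  · ext j
    have := j.isLt
    simp only [Perm.mul_apply, val_finRotate, hpow d (by omega), val_mkP, k]
    grind
  · intro hh
    have := congrArg Fin.val hh
    rw [val_finRotate] at this
    split_ifs at this <;> omega

theorem confined_of_fpf {L : ℕ} {g x k : Perm (Fin L)} (h : ∀ j, g j ≠ j) : Confined g x k :=
  fun y hy => absurd hy (h y)

theorem finRotate_ne {L : ℕ} (h : 2 ≤ L) (j : Fin L) : finRotate L j ≠ j := by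
  intro hh
  have := congrArg Fin.val hh
  rw [val_finRotate] at this
  split_ifs at this <;> omega

theorem join_finRotate_ne {m r : ℕ} (hm : 2 ≤ m) (hr : 2 ≤ r) (j : Fin (m + r)) :
    join (finRotate m) (finRotate r) j ≠ j := by
  intro hh
  have := congrArg Fin.val hh
  rw [val_join_finRotate] at this
  split_ifs at this <;> omega

/-- Cycles of length `4 t + 1`. -/
theorem flip_cycle_one (L : ℕ) (h4 : L % 4 = 1) (h5 : 5 ≤ L) : Flip (finRotate L) := by
  set c := (L - 1) / 2 with hc
  let x := mkP L (fun j => if j = 0 then 0 else L - j)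
    (fun j hj => by split_ifs <;> (first | contradiction | omega))
    (fun i hi j hj h' => by split_ifs at h' <;> omega)
  let k := mkP L (fun j => if j + c < L then j + c else j + c - L)
    (fun j hj => by split_ifs <;> (first | contradiction | omega))
    (fun i hi j hj h' => by split_ifs at h' <;> omega)
  have hsign : Perm.sign x = 1 := by
    refine sign_eq_one_of_fix (Perm.ext fun j => Fin.ext ?_) {⟨0, by omega⟩} (fun j => ?_)
      (by rw [Finset.card_singleton]; omega)
    · have := j.isLt
      simp only [Perm.mul_apply, Perm.one_apply, x, val_mkP]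
      grind
    · have := j.isLt
      simp only [Finset.mem_singleton, Fin.ext_iff, x, val_mkP]
      split_ifs <;> (first | contradiction | omega)
  refine ⟨x, k, ⟨hsign, ?_⟩, confined_of_fpf (finRotate_ne (by omega)), ?_⟩
  · ext j
    have := j.isLt
    simp only [Perm.mul_apply, val_finRotate, val_mkP, x, k]
    grind
  · refine swapPairs_mkP _ _ 1 (L - 1) 2 (L - 2) (by omega) (by omega) (by omega)
      (by omega) (by omega) ?_
    refine ⟨?_, ?_, ?_, ?_⟩ <;> (split_ifs <;> (first | contradiction | omega))

/-- Cycles of length `4 t + 3`. -/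
theorem flip_cycle_three (L : ℕ) (h4 : L % 4 = 3) (h7 : 7 ≤ L) : Flip (finRotate L) := by
  set h := (L - 1) / 2 with hh
  let x := mkP L (fun j => if j = 0 then h + 1 else if j = h + 1 then h else if j = h then 0
      else L - j)
    (fun j hj => by split_ifs <;> (first | contradiction | omega))
    (fun i hi j hj h' => by split_ifs at h' <;> omega)
  let k := mkP L (fun j => if j < h then j else if j = h then L - 1 else j - 1)
    (fun j hj => by split_ifs <;> (first | contradiction | omega))
    (fun i hi j hj h' => by split_ifs at h' <;> omega)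
  have hx3 : ∀ j : Fin L, ((x * x * x) j : ℕ) =
      if (j : ℕ) = 0 ∨ (j : ℕ) = h ∨ (j : ℕ) = h + 1 then (j : ℕ) else L - j := by
    intro j
    have := j.isLt
    simp only [Perm.mul_apply, x, val_mkP]
    split_ifs <;> (first | contradiction | omega)
  have hsign : Perm.sign x = 1 := by
    refine sign_cube x (sign_eq_one_of_fix (Perm.ext fun j => Fin.ext ?_)
      {⟨0, by omega⟩, ⟨h, by omega⟩, ⟨h + 1, by omega⟩} (fun j => ?_) ?_)
    · have := j.isLt
      rw [Perm.mul_apply, hx3, hx3, Perm.one_apply]
      grind
    · have := j.isLt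
      simp only [Finset.mem_singleton, Finset.mem_insert, Fin.ext_iff, hx3]
      split_ifs <;> (first | contradiction | omega)
    · rw [Finset.card_eq_three.mpr ⟨_, _, _, by simp [Fin.ext_iff]; omega,
        by simp [Fin.ext_iff], by simp [Fin.ext_iff], rfl⟩]
      omega
  refine ⟨x, k, ⟨hsign, ?_⟩, confined_of_fpf (finRotate_ne (by omega)), ?_⟩
  · ext j
    have := j.isLt
    simp only [Perm.mul_apply, val_finRotate, val_mkP, x, k]
    grind
  · refine swapPairs_mkP _ _ 1 (L - 1) 2 (L - 2) (by omega) (by omega) (by omega)
      (by omega) (by omega) ?_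
    refine ⟨?_, ?_, ?_, ?_⟩ <;> (split_ifs <;> (first | contradiction | omega))

end Cfsg.Agent.Lib.DoubleCoverComm
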